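import Cfsg.Agent.Nodes.KindChev
import Cfsg.Agent.Nodes.Slope
import Cfsg.Agent.BpExc.TorCent
import Cfsg.Agent.Prune
set_option linter.all false
prune_inst 0x7f00000000000000000000000000000000000000000000000000000000000000000000000000000000000000000000000000000000000000000000000000000000000000000000000000000000000000003fffffffffffffffffffffffffffbeffbdffffffff
open scoped Cfsg.Agent.FastGrp

/-!
# Stabilisers modulo `m` in a simply laced unimodular root lattice are generated by reflections (helper893, S2188 X5)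

`A` symmetric, `q = qf A 1` positive semidefinite, `A` unimodular, and every nonzero vector `x` has a root `β` with
`2 ≤ q β x` (type `E₈`). If `w ∈ W` fixes `y` modulo `m Q`, then `w` is a product of reflections in roots `β` with
`m ∣ q β y`.
-/

set_option autoImplicit false
set_option linter.unusedSectionVars false

namespace Cfsg.Agent.H893.Tor

open CoxeterSystem Cfsg.Agent.ChevalleyStructure.CoxeterGeom Cfsg.Agent.Tits.Roots Cfsg.Agent.Tits.Core
  Cfsg.Agent.Tits.RootComb Cfsg.Agent.Nodes.Comb Cfsg.Agent.Nodes.SubComb Cfsg.Agent.Nodes.PosPair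
  Cfsg.Agent.Nodes.Coroot Cfsg.Agent.Nodes.KindBase Cfsg.Agent.Nodes.StabComb Cfsg.Agent.Nodes.KindChev
  Cfsg.Agent.Nodes.BNOf

variable {I W : Type*} [Fintype I] [DecidableEq I] [Group W] {M : CoxeterMatrix I}
  (cs : CoxeterSystem M W) {A : I → I → ℤ} (h : IsCartan M A)

/-- the invariant form -/
def bf (A : I → I → ℤ) (x y : I → ℤ) : ℤ := qf A (fun _ => 1) x y

section

variable (hs : ∀ i j, A i j = A j i)

omit [DecidableEq I] in
include hs in
theorem bf_comm (x y : I → ℤ) : bf A x y = bf A y x := qf_comm (fun i j => by rw [hs i j]) x y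

omit [DecidableEq I] in
theorem bf_add_left (x x' y : I → ℤ) : bf A (x + x') y = bf A x y + bf A x' y := qf_add_left x x' y

omit [DecidableEq I] in
theorem bf_smul_left (c : ℤ) (x y : I → ℤ) : bf A (c • x) y = c * bf A x y := qf_smul_left c x y

omit [DecidableEq I] in
theorem bf_sub_left (x x' y : I → ℤ) : bf A (x - x') y = bf A x y - bf A x' y := qf_sub_left x x' y

omit [DecidableEq I] in
include hs in
theorem bf_add_right (x y y' : I → ℤ) : bf A x (y + y') = bf A x y + bf A x y' := by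
  rw [bf_comm hs, bf_add_left, bf_comm hs y, bf_comm hs y']

omit [DecidableEq I] in
include hs in
theorem bf_smul_right (c : ℤ) (x y : I → ℤ) : bf A x (c • y) = c * bf A x y := by
  rw [bf_comm hs, bf_smul_left, bf_comm hs]

omit [DecidableEq I] in
include hs in
theorem bf_sub_right (x y y' : I → ℤ) : bf A x (y - y') = bf A x y - bf A x y' := by
  rw [bf_comm hs, bf_sub_left, bf_comm hs y, bf_comm hs y']

include hs in
theorem bf_sr (i : I) (y : I → ℤ) : bf A (sr i) y = pairing A i y := by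
  have := qf_sr_left (A := A) (d := fun _ => 1) (fun i j => by rw [hs i j]) y i
  rw [one_mul] at this
  exact this

include hs in
theorem bf_rep (w : W) (x y : I → ℤ) : bf A (rep cs h w x) (rep cs h w y) = bf A x y :=
  qf_rep cs h (fun i j => by rw [hs i j]) w x y

include hs in
theorem bf_rep_left (w : W) (x y : I → ℤ) : bf A (rep cs h w x) y = bf A x (rep cs h w⁻¹ y) := by
  conv_lhs => rw [← rep_apply_inv cs h w y]
  rw [bf_rep cs h hs]

include hs in
theorem bf_root {x : I → ℤ} (hx : IsRoot cs h x) : bf A x x = 2 := by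
  obtain ⟨w, i, rfl⟩ := hx
  have := qf_root cs h (d := fun _ => 1) (fun i j => by rw [hs i j]) w i
  rw [mul_one] at this
  exact this

include hs in
theorem cpr_eq_bf [Finite W] (x : I → ℤ) {y : I → ℤ} (hy : IsRoot cs h y) : cpr cs h x y = bf A x y := by
  have h1 := cpr_mul_qf cs h (d := fun _ => 1) (fun i j => by rw [hs i j]) x hy
  have h2 : qf A (fun _ => 1) y y = 2 := bf_root cs h hs hy
  rw [h2] at h1
  have h3 : (2 : ℤ) ≠ 0 := two_ne_zero
  apply mul_left_cancel₀ h3
  rw [mul_comm, h1]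
  rfl

include hs in
/-- the reflection formula -/
theorem rep_rfl'_bf [Finite W] (w : W) (i : I) (x : I → ℤ) :
    rep cs h (rfl' cs w i) x = x - bf A x (rep cs h w (sr i)) • rep cs h w (sr i) := by
  rw [rep_rfl'_eq, cpr_eq_bf cs h hs _ ⟨w, i, rfl⟩]

include hs in
/-- the stabiliser of a vector `y` with `|(β, y)| < p` for the roots `β`, `p` a prime not dividing `|W|` -/
theorem mem_of_fix [Finite W] {p : ℕ} (hp : p.Prime) (hW : ¬ p ∣ Nat.card W) {y : I → ℤ}
    (hy : ∀ x, IsRoot cs h x → |bf A x y| < p) {w : W} (hw : rep cs h w y = y) {V : Subgroup W}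
    (hV : ∀ u i, bf A (rep cs h u (sr i)) y = 0 → rfl' cs u i ∈ V) : w ∈ V := by
  classical
  set S : Set (I → ℤ) := {a | IsRoot cs h a ∧ bf A a y = 0} with hS
  set V' : Subgroup W := Subgroup.closure {v | ∃ u i, v = rfl' cs u i ∧ bf A (rep cs h u (sr i)) y = 0} with hV'
  have hV'V : V' ≤ V := by
    rw [hV', Subgroup.closure_le]
    rintro _ ⟨u, i, rfl, h1⟩
    exact hV u i h1
  have hfix : ∀ v ∈ V', rep cs h v y = y := by
    intro v hv
    induction hv using Subgroup.closure_induction with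
    | mem v hv =>
      obtain ⟨u, i, rfl, h1⟩ := hv
      rw [rep_rfl'_bf cs h hs, bf_comm hs, h1, zero_smul, sub_zero]
    | one => rw [map_one, Module.End.one_apply]
    | mul a b _ _ ha hb => rw [rep_mul_apply, hb, ha]
    | inv a _ ha =>
      conv_lhs => rw [← ha]
      rw [rep_inv_apply]
  obtain ⟨v, hv, hpos⟩ := BpExc.TorCent.exists_adjust (cs := cs) (h := h) S V' (by
    rintro a ⟨⟨u, i, rfl⟩, h1⟩
    exact ⟨u, i, rfl, Subgroup.subset_closure ⟨u, i, rfl, h1⟩⟩) w
  set w₁ := w * v with hw₁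
  have hw₁y : rep cs h w₁ y = y := by rw [hw₁, rep_mul_apply, hfix v hv, hw]
  suffices h1 : w₁ = 1 by
    have h2 : w = v⁻¹ := by rw [← mul_eq_one_iff_eq_inv]; exact h1
    rw [h2]
    exact V.inv_mem (hV'V hv)
  -- the powers
  have hpowy : ∀ m : ℕ, rep cs h (w₁ ^ m) y = y := by
    intro m
    induction m with
    | zero => rw [pow_zero, map_one, Module.End.one_apply]
    | succ m ih => rw [pow_succ, rep_mul_apply, hw₁y, ih]
  have hpowS : ∀ (m : ℕ) (a : I → ℤ), a ∈ S → rep cs h (w₁ ^ m) a ∈ S := by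
    rintro m a ⟨h1, h2⟩
    refine ⟨h1.act _, ?_⟩
    rw [bf_rep_left cs h hs]
    have h3 : rep cs h (w₁ ^ m)⁻¹ y = y := by
      conv_lhs => rw [← hpowy m]
      rw [rep_inv_apply]
    rw [h3, h2]
  have hpowpos : ∀ (m : ℕ) (a : I → ℤ), a ∈ S → 0 ≤ a → 0 ≤ rep cs h (w₁ ^ m) a := by
    intro m a ha h0
    induction m with
    | zero => rwa [pow_zero, map_one, Module.End.one_apply]
    | succ m ih =>
      rw [pow_succ', rep_mul_apply]
      exact hpos _ (hpowS m a ha) ih
  have hfo : IsOfFinOrder w₁ := isOfFinOrder_of_finite w₁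
  have hpw : ∀ u ∈ Subgroup.zpowers w₁, ∃ m : ℕ, w₁ ^ m = u := fun u hu => hfo.mem_powers_iff_mem_zpowers.2 hu
  -- the character
  obtain ⟨ζ, hζ⟩ : ∃ ζ : ℂ, IsPrimitiveRoot ζ p := ⟨_, Complex.isPrimitiveRoot_exp p hp.ne_zero⟩
  have hζ0 : ζ ≠ 0 := hζ.ne_zero hp.ne_zero
  have hP := BpExc.Fix.isPGroup_of_char (cs := cs) (h := h) hp (fun x : I → ℤ => ζ ^ bf A x y)
    (by
      have : bf A 0 y = 0 := by
        have := bf_smul_left (A := A) 0 y y
        rwa [zero_smul, zero_mul] at this
      show ζ ^ bf A 0 y = 1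
      rw [this, zpow_zero])
    (fun x x' => by
      show ζ ^ bf A (x + x') y = _
      rw [bf_add_left, zpow_add₀ hζ0])
    (fun x _ => by
      show (ζ ^ bf A x y) ^ p = 1
      rw [← zpow_natCast, ← zpow_mul, mul_comm, zpow_mul, zpow_natCast, hζ.pow_eq_one, one_zpow])
    (Subgroup.zpowers w₁)
    (fun u hu x _ => by
      obtain ⟨m, rfl⟩ := hpw u hu
      show ζ ^ bf A (rep cs h (w₁ ^ m) x) y = ζ ^ bf A x y
      rw [bf_rep_left cs h hs]
      have h3 : rep cs h (w₁ ^ m)⁻¹ y = y := by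
        conv_lhs => rw [← hpowy m]
        rw [rep_inv_apply]
      rw [h3])
    Nodes.Slope.htHom (fun x hx _ => by rw [Nodes.Slope.htHom_apply]; exact Nodes.Slope.ht_ne_zero hx)
    (fun u hu x hx h1 h2 => by
      obtain ⟨m, rfl⟩ := hpw u hu
      have h3 : (p : ℤ) ∣ bf A x y := (hζ.zpow_eq_one_iff_dvd _).1 h1
      have h4 : bf A x y = 0 := Int.eq_zero_of_abs_lt_dvd h3 (hy x hx)
      have h5 : 0 ≤ x := by
        rcases hx.pos_or_neg with h5 | h5
        · exact h5
        · exfalso
          have h6 := RGD.ht_pos hx.neg (neg_nonneg.2 h5)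
          rw [← Nodes.Slope.htHom_apply, map_neg] at h6
          omega
      rw [Nodes.Slope.htHom_apply]
      exact RGD.ht_pos (hx.act _) (hpowpos m x ⟨hx, h4⟩ h5))
  have hfp : Fact p.Prime := ⟨hp⟩
  obtain ⟨k, hk⟩ := IsPGroup.iff_card.1 hP
  have hk0 : k = 0 := by
    by_contra hk0
    apply hW
    have h1 : p ∣ Nat.card ↥(Subgroup.zpowers w₁) := by rw [hk]; exact dvd_pow_self p hk0
    exact h1.trans (Subgroup.card_subgroup_dvd_card _)
  rw [hk0, pow_zero, Nat.card_zpowers, orderOf_eq_one_iff] at hk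
  exact hk

include hs in
/-- **The stabiliser of a vector modulo `m`.** -/
theorem mem_of_fix_mod [Finite W] (hpos : ∀ x, 0 ≤ bf A x x)
    (hroot : ∀ x : I → ℤ, x ≠ 0 → ∃ b, IsRoot cs h b ∧ 2 ≤ bf A b x) {m p : ℕ} (hm : 0 < m) (hmp : m < p)
    (hp : p.Prime) (hW : ¬ p ∣ Nat.card W) {y μ : I → ℤ} {w : W} (hw : rep cs h w y = y + (m : ℤ) • μ)
    {V : Subgroup W} (hV : ∀ u i, (m : ℤ) ∣ bf A (rep cs h u (sr i)) y → rfl' cs u i ∈ V) : w ∈ V := by
  classical
  -- a shortest vector in `y + m Q`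
  obtain ⟨ν, hν⟩ : ∃ ν : I → ℤ, ∀ ν' : I → ℤ, (bf A (y + (m : ℤ) • ν) (y + (m : ℤ) • ν)) ≤
      bf A (y + (m : ℤ) • ν') (y + (m : ℤ) • ν') := by
    obtain ⟨ν, hν⟩ := WellFounded.has_min (measure fun ν : I → ℤ =>
      (bf A (y + (m : ℤ) • ν) (y + (m : ℤ) • ν)).toNat).wf Set.univ ⟨0, Set.mem_univ _⟩
    refine ⟨ν, fun ν' => ?_⟩
    have h1 := hν.2 ν' (Set.mem_univ _)
    have h2 : ¬ (bf A (y + (m : ℤ) • ν') (y + (m : ℤ) • ν')).toNat < (bf A (y + (m : ℤ) • ν) (y + (m : ℤ) • ν)).toNat := h1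
    have h3 := hpos (y + (m : ℤ) • ν)
    have h4 := hpos (y + (m : ℤ) • ν')
    omega
  set y₀ := y + (m : ℤ) • ν with hy₀
  have hy₀V : ∀ u i, (m : ℤ) ∣ bf A (rep cs h u (sr i)) y₀ → rfl' cs u i ∈ V := by
    intro u i hd
    refine hV u i ?_
    rw [hy₀, bf_add_right hs, bf_smul_right hs] at hd
    exact (Int.dvd_add_left (Dvd.intro _ rfl)).1 hd
  have hb : ∀ x, IsRoot cs h x → -(m : ℤ) ≤ bf A x y₀ := by
    intro x hx
    have h1 := hν (ν + x)
    have h2 : y + (m : ℤ) • (ν + x) = y₀ + (m : ℤ) • x := by rw [hy₀, smul_add]; abel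
    have h4 : ∀ z : I → ℤ, bf A (z + (m : ℤ) • x) (z + (m : ℤ) • x) =
        bf A z z + 2 * m * bf A x z + m * m * 2 := by
      intro z
      rw [bf_add_left, bf_add_right hs, bf_add_right hs, bf_smul_left, bf_smul_left, bf_smul_right hs,
        bf_smul_right hs, bf_root cs h hs hx, bf_comm hs z x]
      ring
    rw [h2, h4] at h1
    have h3 : (0 : ℤ) < m := by exact_mod_cast hm
    by_contra hcon
    push Not at hcon
    nlinarith
  have hb' : ∀ x, IsRoot cs h x → bf A x y₀ ≤ m := by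
    intro x hx
    have h1 := hb _ hx.neg
    have h2 : bf A (-x) y₀ = - bf A x y₀ := by
      rw [← neg_one_smul ℤ x, bf_smul_left]; ring
    rw [h2] at h1
    linarith
  -- the induction
  have key : ∀ (n : ℕ) (w : W) (μ : I → ℤ), (bf A μ μ).toNat = n → rep cs h w y₀ = y₀ + (m : ℤ) • μ → w ∈ V := by
    intro n
    induction n using Nat.strong_induction_on with
    | _ n ih =>
      intro w μ hn hw
      by_cases hμ : μ = 0
      · rw [hμ, smul_zero, add_zero] at hw
        refine mem_of_fix cs h hs hp hW (y := y₀) (fun x hx => ?_) hw (fun u i h0 => hy₀V u i (by rw [h0]; exact dvd_zero _))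
        rw [abs_lt]
        have h1 := hb x hx
        have h2 := hb' x hx
        have h3 : (m : ℤ) < p := by exact_mod_cast hmp
        constructor <;> linarith
      · obtain ⟨b, hbr, hb2⟩ := hroot μ hμ
        obtain ⟨u, i, hui⟩ := id hbr
        have h1 : bf A b (rep cs h w y₀) = bf A b y₀ + m * bf A b μ := by
          rw [hw, bf_add_right hs, bf_smul_right hs]
        have h2 : bf A b (rep cs h w y₀) = bf A (rep cs h w⁻¹ b) y₀ := by
          rw [bf_rep_left cs h hs, inv_inv]
        have h3 := hb' _ (hbr.act w⁻¹)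
        have h4 := hb b hbr
        have hm0 : (0 : ℤ) < m := by exact_mod_cast hm
        rw [← h2, h1] at h3
        have h5 : bf A b μ = 2 := by
          by_contra hne
          have h6 : 3 ≤ bf A b μ := by omega
          nlinarith
        have h6 : bf A b y₀ = -m := by
          rw [h5] at h3
          linarith
        have h7 : rfl' cs u i ∈ V := by
          refine hy₀V u i ?_
          rw [← hui, h6]
          exact (dvd_neg.2 dvd_rfl)
        have h8 : rep cs h (rfl' cs u i * w) y₀ = y₀ + (m : ℤ) • (μ - b) := by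
          rw [rep_mul_apply, hw, rep_rfl'_bf cs h hs, ← hui, bf_comm hs, bf_add_right hs, bf_smul_right hs, h6, h5]
          rw [smul_sub]
          have e : (-(m : ℤ) + m * 2) = m := by ring
          rw [e]
          abel
        have h9 : bf A (μ - b) (μ - b) = bf A μ μ - 2 := by
          rw [bf_sub_left, bf_sub_right hs, bf_sub_right hs, bf_comm hs μ b, h5, bf_root cs h hs hbr]
          ring
        have h10 := hpos (μ - b)
        have h11 := ih (bf A (μ - b) (μ - b)).toNat (by omega) (rfl' cs u i * w) (μ - b) rfl h8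
        have h12 := V.mul_mem (V.inv_mem h7) h11
        rwa [inv_mul_cancel_left] at h12
  -- the vector `y₀`
  refine key _ w (μ + rep cs h w ν - ν) rfl ?_
  rw [hy₀, map_add, map_smul, hw, smul_sub, smul_add]
  abel

end

end Cfsg.Agent.H893.Tor
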